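/-
Certificate data for the normaliser of a Sylow five-subgroup of Suz.
-/
import Cfsg.Agent.Lib.SuzOut.Action

set_option autoImplicit false

namespace CfsgLib.SuzFiveNorm

/-- The first generator. -/
def uW : List ℕ := [0, 1]

/-- The second generator. -/
def vW : List ℕ := [4, 1, 2, 3, 2, 3, 1, 2, 3, 2, 3, 1, 2, 3, 2, 3, 1, 2, 3, 2, 3, 1, 2, 3, 2]

/-- The central element of order four. -/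
def cW : List ℕ := [3, 4, 1, 2, 3, 2, 3, 1, 2, 3, 2, 3, 1, 2, 3, 2, 3, 1, 2, 3, 2, 3, 1, 2, 3, 2, 3, 2, 5, 1, 6, 5, 1, 2, 3, 2, 1, 5, 6, 1, 2, 3, 2, 1, 6, 5, 1, 6, 2, 1, 5, 4, 0, 1, 0, 1, 4, 1, 2, 3, 2, 3, 1, 2, 3, 2, 3, 1, 2, 3, 2, 3, 1, 2, 3, 2, 3, 1, 2, 3, 2, 4, 1, 2, 3, 2, 3, 1, 2, 3, 2, 3, 1, 2, 3, 2, 3, 1, 2, 3, 2, 3, 1, 2, 3, 2, 4, 1, 2, 3, 2, 3, 1, 2, 3, 2, 3, 1, 2, 3, 2, 3, 1, 2, 3, 2, 3, 1, 2, 3, 2]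

/-- The symmetric group. -/
def sW : List (List ℕ) := [[], [0], [3, 4, 2, 3, 2, 1, 0, 4, 3, 2, 3, 1, 2, 3, 4, 3, 2, 3], [0, 3, 4, 2, 3, 2, 1, 0, 4, 3, 2, 3, 1, 2, 3, 4, 3, 2, 3, 0], [0, 3, 4, 2, 3, 2, 1, 0, 4, 3, 2, 3, 1, 2, 3, 4, 3, 2, 3], [3, 4, 2, 3, 2, 1, 0, 4, 3, 2, 3, 1, 2, 3, 4, 3, 2, 3, 0]]

/-- Coordinates of the products. -/
def mulC : List (ℕ × ℕ) := [(0, 0), (0, 0), (0, 0), (0, 0), (0, 0), (0, 0), (0, 0), (0, 0), (0, 0), (0, 0), (0, 0), (0, 0), (0, 0), (0, 0), (0, 0), (0, 0), (0, 0), (0, 0), (0, 0), (0, 0), (0, 0), (0, 0), (0, 0), (0, 0), (0, 0), (0, 0), (0, 0), (0, 0), (0, 0), (0, 0), (0, 0), (0, 0), (0, 0), (0, 0), (0, 0), (0, 0)]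

/-- Coordinates of the fourth power. -/
def fourC : ℕ × ℕ := (0, 0)

/-- Coordinates of the commutators. -/
def commC : List (ℕ × ℕ) := [(0, 0), (0, 0), (0, 0), (0, 0), (0, 0), (0, 0)]

/-- Coordinates of the conjugates. -/
def conjC : List ((ℕ × ℕ) × ℕ × ℕ) := [((2, 0), 0, 2), ((1, 0), 0, 1), ((4, 0), 0, 1), ((3, 3), 4, 2), ((3, 2), 1, 2), ((2, 2), 4, 2), ((2, 3), 1, 2)]

/-- The lines: an element and the image. -/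
def lineC : List (ℕ × ℕ × ℕ × ℕ) := [(0, 0, 0, 0), (0, 0, 1, 1), (0, 0, 1, 2), (0, 0, 1, 3), (0, 0, 1, 4), (0, 0, 0, 1), (0, 2, 0, 2), (0, 3, 1, 1), (0, 2, 1, 4), (0, 3, 0, 2), (0, 0, 0, 2), (0, 2, 1, 3), (0, 2, 0, 4), (0, 3, 0, 4), (0, 3, 1, 2), (0, 0, 0, 3), (0, 3, 1, 3), (0, 3, 0, 1), (0, 2, 0, 1), (0, 2, 1, 2), (0, 0, 0, 4), (0, 3, 0, 3), (0, 2, 1, 1), (0, 3, 1, 4), (0, 2, 0, 3)]

end CfsgLib.SuzFiveNorm
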