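import Cfsg.Agent.Lib.SuzFiveNorm.Model

/-!
The normaliser of a Sylow five-subgroup in a group isomorphic to Suz.
-/

set_option autoImplicit false
set_option maxRecDepth 100000
set_option linter.unusedVariables false

universe u

namespace CfsgLib.SuzFiveNorm

variable {G : Type u} [Group G] [Finite G]

theorem mem_norm_of_conj {H : Subgroup G} {a : G}
    (h : ∀ y ∈ H, a * y * a⁻¹ ∈ H) : a ∈ Subgroup.normalizer (H : Set G) := by
  have he : H.map (MulAut.conj a).toMonoidHom = H := Subgroup.eq_of_le_of_card_ge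
    (by rintro _ ⟨y, hy, rfl⟩; exact h y hy)
    (by rw [Subgroup.card_map_of_injective (MulAut.conj a).injective])
  refine Subgroup.mem_normalizer_iff.mpr fun y => ⟨h y, fun hy => ?_⟩
  rw [← he] at hy
  obtain ⟨y', hy', e⟩ := hy
  have : a * y' * a⁻¹ = a * y * a⁻¹ := e
  rwa [mul_left_cancel (mul_right_cancel this)] at hy'

/-- The conclusion about the normaliser. -/
theorem result (e : G ≃* CosetEnum.presSuz.Grp)
    (h25 : ∀ P : Sylow 5 G, Nat.card (P : Subgroup G) = 25)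
    (hC : ∀ P : Sylow 5 G, Subgroup.centralizer ((P : Subgroup G) : Set G) ≤ (P : Subgroup G)) (P : Sylow 5 G) :
    (∃ A B : Subgroup G, Nat.card A = 5 ∧ Nat.card B = 5 ∧ (∀ g : G, A.map (MulAut.conj g).toMonoidHom ≠ B) ∧
      ∀ C : Subgroup G, Nat.card C = 5 → ∃ g : G, C.map (MulAut.conj g).toMonoidHom = A ∨
        C.map (MulAut.conj g).toMonoidHom = B) ∧
    Nat.card (P : Subgroup G) = 25 ∧ Nat.card ↥(Subgroup.normalizer ((P : Subgroup G) : Set G)) = 600 ∧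
    Nonempty (↥(Subgroup.normalizer ((P : Subgroup G) : Set G)) ⧸
        (P : Subgroup G).subgroupOf (Subgroup.normalizer ((P : Subgroup G) : Set G)) ≃*
      Multiplicative (ZMod 4) × Equiv.Perm (Fin 3)) := by
  classical
  haveI : Fact (Nat.Prime 5) := ⟨by norm_num⟩
  obtain ⟨U', V', ψ', hU', hV', hUV', hind', hψ', hnorm', hline', hfus'⟩ := model
  set U := e.symm U' with hUd
  set V := e.symm V' with hVd
  let ψ := e.symm.toMonoidHom.comp ψ'
  have hU : U ^ 5 = 1 := by rw [hUd, ← map_pow, hU', map_one]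
  have hV : V ^ 5 = 1 := by rw [hVd, ← map_pow, hV', map_one]
  have hUV : Commute U V := hUV'.map e.symm
  have hψ : Function.Injective ψ := e.symm.injective.comp hψ'
  have hw : ∀ i j : ℕ, e.symm (U' ^ i * V' ^ j) = U ^ i * V ^ j := fun i j => by rw [map_mul, map_pow, map_pow]
  have hind : ∀ p : Fin 5 × Fin 5, U ^ p.1.val * V ^ p.2.val = 1 → p = (0, 0) := fun p hp =>
    hind' p (e.symm.injective (by rw [hw, hp, map_one]))
  have hnorm : ∀ g, (∃ q : Fin 5 × Fin 5, ψ g * U * (ψ g)⁻¹ = U ^ q.1.val * V ^ q.2.val) ∧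
      ∃ q : Fin 5 × Fin 5, ψ g * V * (ψ g)⁻¹ = U ^ q.1.val * V ^ q.2.val := fun g => by
    obtain ⟨⟨q, hq⟩, q', hq'⟩ := hnorm' g
    refine ⟨⟨q, ?_⟩, q', ?_⟩
    · rw [← hw, ← hq, map_mul, map_mul, map_inv]; rfl
    · rw [← hw, ← hq', map_mul, map_mul, map_inv]; rfl
  have hline : ∀ p : Fin 5 × Fin 5, p ≠ (0, 0) → ∃ g, ∃ k : Fin 5, k ≠ 0 ∧
      (side p = 0 ∧ ψ g * (U ^ p.1.val * V ^ p.2.val) * (ψ g)⁻¹ = U ^ k.val ∨
        side p = 1 ∧ ψ g * (U ^ p.1.val * V ^ p.2.val) * (ψ g)⁻¹ = V ^ k.val) := fun p hp => by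
    obtain ⟨g, k, hk, hh⟩ := hline' p hp
    refine ⟨g, k, hk, ?_⟩
    have key : ψ g * (U ^ p.1.val * V ^ p.2.val) * (ψ g)⁻¹ =
        e.symm (ψ' g * (U' ^ p.1.val * V' ^ p.2.val) * (ψ' g)⁻¹) := by
      rw [map_mul, map_mul, map_inv, hw]; rfl
    rcases hh with ⟨h1, h2⟩ | ⟨h1, h2⟩
    · exact Or.inl ⟨h1, by rw [key, h2, map_pow]⟩
    · exact Or.inr ⟨h1, by rw [key, h2, map_pow]⟩
  have hfus : ∀ (g : G) (k l : Fin 5), l ≠ 0 → g * V ^ k.val * g⁻¹ ≠ U ^ l.val := fun g k l hl h => by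
    refine hfus' (e g) k l hl ?_
    have := congrArg e h
    simpa [hUd, hVd] using this
  -- the subgroup
  let cu : Multiplicative (ZMod 5) →* G := MonoidHom.mk' (fun a => U ^ (Multiplicative.toAdd a).val) fun a b => by
    show U ^ (Multiplicative.toAdd a + Multiplicative.toAdd b).val = _
    rw [← pow_add, ZMod.val_add, ← pow_eq_pow_mod _ hU]
  let cv : Multiplicative (ZMod 5) →* G := MonoidHom.mk' (fun a => V ^ (Multiplicative.toAdd a).val) fun a b => by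
    show V ^ (Multiplicative.toAdd a + Multiplicative.toAdd b).val = _
    rw [← pow_add, ZMod.val_add, ← pow_eq_pow_mod _ hV]
  let φ := cu.noncommCoprod cv fun a b => hUV.pow_pow _ _
  let P0 := φ.range
  have hP0 : ∀ i j : ℕ, U ^ i * V ^ j ∈ P0 := fun i j =>
    ⟨(Multiplicative.ofAdd (i : ZMod 5), Multiplicative.ofAdd (j : ZMod 5)), by
      show U ^ (i : ZMod 5).val * V ^ (j : ZMod 5).val = _
      rw [ZMod.val_natCast, ZMod.val_natCast, ← pow_eq_pow_mod _ hU, ← pow_eq_pow_mod _ hV]⟩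
  have hP0' : ∀ y ∈ P0, ∃ q : Fin 5 × Fin 5, y = U ^ q.1.val * V ^ q.2.val := by
    rintro _ ⟨⟨i, j⟩, rfl⟩
    exact ⟨(⟨(Multiplicative.toAdd i).val, ZMod.val_lt _⟩, ⟨(Multiplicative.toAdd j).val, ZMod.val_lt _⟩), rfl⟩
  have hφ : Function.Injective φ := by
    refine (injective_iff_map_eq_one φ).mpr fun ij h => ?_
    have := hind (⟨(Multiplicative.toAdd ij.1).val, ZMod.val_lt _⟩, ⟨(Multiplicative.toAdd ij.2).val, ZMod.val_lt _⟩) h
    rw [Prod.ext_iff, Fin.ext_iff, Fin.ext_iff] at this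
    exact Prod.ext (Multiplicative.toAdd.injective ((ZMod.val_eq_zero _).mp this.1))
      (Multiplicative.toAdd.injective ((ZMod.val_eq_zero _).mp this.2))
  have hP0c : Nat.card P0 = 25 := by
    rw [← Nat.card_congr (MonoidHom.ofInjective hφ).toEquiv, Nat.card_prod,
      show Nat.card (Multiplicative (ZMod 5)) = Nat.card (ZMod 5) from rfl, Nat.card_zmod]

  obtain ⟨R, hR⟩ := (IsPGroup.of_card (p := 5) (G := P0) (n := 2) (by rw [hP0c]; norm_num)).exists_le_sylow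
  have hRe : P0 = (R : Subgroup G) := Subgroup.eq_of_le_of_card_ge hR (by rw [hP0c, h25])
  have hU0 : U ∈ P0 := by simpa using hP0 1 0
  have hV0 : V ∈ P0 := by simpa using hP0 0 1
  -- conjugates inside
  have hside : ∀ (g : G) (p q : Fin 5 × Fin 5), p ≠ (0, 0) →
      g * (U ^ p.1.val * V ^ p.2.val) * g⁻¹ = U ^ q.1.val * V ^ q.2.val → side q = side p := by
    intro g p q hp h
    have hq : q ≠ (0, 0) := fun e => by
      subst e
      simp only [Fin.val_zero, pow_zero, mul_one] at h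
      exact hp (hind p (conj_eq_one_iff.mp h))
    obtain ⟨a, k, hk, ha⟩ := hline p hp
    obtain ⟨b, l, hl, hb⟩ := hline q hq
    have tr : ∀ {A B : G}, ψ a * (U ^ p.1.val * V ^ p.2.val) * (ψ a)⁻¹ = A →
        ψ b * (U ^ q.1.val * V ^ q.2.val) * (ψ b)⁻¹ = B → ψ b * g * (ψ a)⁻¹ * A * (ψ b * g * (ψ a)⁻¹)⁻¹ = B := by
      intro A B hA hB
      rw [← hA, ← hB, ← h]; group
    have tr' : ∀ {A B : G}, ψ a * (U ^ p.1.val * V ^ p.2.val) * (ψ a)⁻¹ = A →
        ψ b * (U ^ q.1.val * V ^ q.2.val) * (ψ b)⁻¹ = B →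
        (ψ b * g * (ψ a)⁻¹)⁻¹ * B * ((ψ b * g * (ψ a)⁻¹)⁻¹)⁻¹ = A := by
      intro A B hA hB
      rw [← hA, ← hB, ← h]; group
    rcases ha with ⟨s1, e1⟩ | ⟨s1, e1⟩ <;> rcases hb with ⟨s2, e2⟩ | ⟨s2, e2⟩
    · rw [s1, s2]
    · exact absurd (tr' e1 e2) (hfus _ l k hk)
    · exact absurd (tr e1 e2) (hfus _ k l hl)
    · rw [s1, s2]
  -- the normaliser
  set N := Subgroup.normalizer (P0 : Set G) with hN
  have hPN : P0 ≤ N := Subgroup.le_normalizer
  have hψN : ∀ g, ψ g ∈ N := fun g => by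
    obtain ⟨⟨q1, e1⟩, q2, e2⟩ := hnorm g
    refine mem_norm_of_conj fun y hy => ?_
    obtain ⟨q, rfl⟩ := hP0' y hy
    rw [show ψ g * (U ^ q.1.val * V ^ q.2.val) * (ψ g)⁻¹ =
      (ψ g * U ^ q.1.val * (ψ g)⁻¹) * (ψ g * V ^ q.2.val * (ψ g)⁻¹) by group, ← conj_pow, ← conj_pow, e1, e2]
    exact mul_mem (pow_mem (hP0 _ _) _) (pow_mem (hP0 _ _) _)
  let co : N → (Fin 5 × Fin 5) × (Fin 5 × Fin 5) := fun n =>
    ((hP0' _ ((Subgroup.mem_normalizer_iff.mp n.2 U).mp hU0)).choose,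
      (hP0' _ ((Subgroup.mem_normalizer_iff.mp n.2 V).mp hV0)).choose)
  have hco : ∀ n : N, (n : G) * U * (n : G)⁻¹ = U ^ (co n).1.1.val * V ^ (co n).1.2.val ∧
      (n : G) * V * (n : G)⁻¹ = U ^ (co n).2.1.val * V ^ (co n).2.2.val := fun n =>
    ⟨(hP0' _ ((Subgroup.mem_normalizer_iff.mp n.2 U).mp hU0)).choose_spec,
      (hP0' _ ((Subgroup.mem_normalizer_iff.mp n.2 V).mp hV0)).choose_spec⟩
  have hadm : ∀ n : N, co n ∈ admissible := by
    intro n
    refine Finset.mem_filter.mpr ⟨Finset.mem_univ _, fun p => ?_⟩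
    obtain ⟨⟨⟨i, j⟩, k, l⟩, hq⟩ : ∃ q, co n = q := ⟨_, rfl⟩
    obtain ⟨e1, e2⟩ := hco n
    rw [hq] at e1 e2 ⊢
    by_cases hp : p = (0, 0)
    · subst hp; simp [coordMul]
    refine hside n p _ hp ?_
    rw [show (n : G) * (U ^ p.1.val * V ^ p.2.val) * (n : G)⁻¹ =
      ((n : G) * U ^ p.1.val * (n : G)⁻¹) * ((n : G) * V ^ p.2.val * (n : G)⁻¹) by group, ← conj_pow, ← conj_pow, e1, e2,
      (hUV.pow_pow _ _).mul_pow, (hUV.pow_pow _ _).mul_pow, ← pow_mul, ← pow_mul, ← pow_mul, ← pow_mul]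
    calc U ^ (i.val * p.1.val) * V ^ (j.val * p.1.val) * (U ^ (k.val * p.2.val) * V ^ (l.val * p.2.val))
        = U ^ (p.1.val * i.val + p.2.val * k.val) * V ^ (p.1.val * j.val + p.2.val * l.val) := by
          rw [mul_assoc, ← mul_assoc (V ^ _), ← (hUV.pow_pow _ _).eq, pow_add, pow_add]
          simp only [mul_assoc, mul_comm i.val, mul_comm j.val, mul_comm k.val, mul_comm l.val]
      _ = _ := by
          rw [pow_eq_pow_mod _ hU, pow_eq_pow_mod (p.1.val * j.val + p.2.val * l.val) hV]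
          congr 2 <;> simp [coordMul, Fin.val_add, Fin.val_mul, Nat.add_mod]
  have hker : ∀ n n' : N, co n = co n' → (n'⁻¹ * n : N) ∈ P0.subgroupOf N := by
    intro n n' h
    rw [Subgroup.mem_subgroupOf, hRe]
    refine hC R (Subgroup.mem_centralizer_iff.mpr fun y hy => ?_)
    rw [SetLike.mem_coe, ← hRe] at hy
    obtain ⟨e1, e2⟩ := hco n
    obtain ⟨f1, f2⟩ := hco n'
    rw [h, ← f1] at e1
    rw [h, ← f2] at e2
    have cU : Commute ((n' : G)⁻¹ * n) U := by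
      show (n' : G)⁻¹ * n * U = U * ((n' : G)⁻¹ * n)
      calc (n' : G)⁻¹ * n * U = (n' : G)⁻¹ * ((n : G) * U * (n : G)⁻¹) * n := by group
        _ = _ := by rw [e1]; group
    have cV : Commute ((n' : G)⁻¹ * n) V := by
      show (n' : G)⁻¹ * n * V = V * ((n' : G)⁻¹ * n)
      calc (n' : G)⁻¹ * n * V = (n' : G)⁻¹ * ((n : G) * V * (n : G)⁻¹) * n := by group
        _ = _ := by rw [e2]; group
    obtain ⟨q, rfl⟩ := hP0' y hy
    exact (Commute.mul_right (cU.pow_right _) (cV.pow_right _)).eq.symm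
  haveI hnorm0 : (P0.subgroupOf N).Normal := by rw [hN]; infer_instance
  have hle : Nat.card (N ⧸ P0.subgroupOf N) ≤ 24 := by
    rw [← admissible_card, ← Nat.card_eq_finsetCard]
    refine Nat.card_le_card_of_injective (fun c => ⟨co c.out, hadm _⟩) fun c c' h => ?_
    rw [← QuotientGroup.out_eq' c, ← QuotientGroup.out_eq' c', QuotientGroup.eq]
    exact hker _ _ (congrArg Subtype.val h).symm
  let ψN : Multiplicative (ZMod 4) × Equiv.Perm (Fin 3) →* N := ψ.codRestrict N hψN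
  let Ψ := (QuotientGroup.mk' (P0.subgroupOf N)).comp ψN
  have h24 : Nat.card (Multiplicative (ZMod 4) × Equiv.Perm (Fin 3)) = 24 := by
    rw [Nat.card_prod, show Nat.card (Multiplicative (ZMod 4)) = Nat.card (ZMod 4) from rfl, Nat.card_zmod,
      Nat.card_eq_fintype_card, Fintype.card_perm, Fintype.card_fin]
    rfl
  have hΨi : Function.Injective Ψ := by
    refine (injective_iff_map_eq_one Ψ).mpr fun g hg => ?_
    have hm : ψ g ∈ P0 := Subgroup.mem_subgroupOf.mp ((QuotientGroup.eq_one_iff (ψN g)).mp hg)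
    have h1 : orderOf (ψ g) ∣ 25 := hP0c ▸ Subgroup.orderOf_dvd_natCard _ hm
    have h2 : orderOf (ψ g) ∣ 24 := (orderOf_map_dvd ψ g).trans (h24 ▸ orderOf_dvd_natCard g)
    refine hψ ((orderOf_eq_one_iff.mp ?_).trans (map_one ψ).symm)
    exact Nat.dvd_one.mp ((Nat.dvd_gcd h1 h2).trans (dvd_of_eq (by norm_num)))
  have hq : Nat.card (N ⧸ P0.subgroupOf N) = 24 :=
    le_antisymm hle (h24 ▸ Nat.card_le_card_of_injective Ψ hΨi)
  have hbij : Function.Bijective Ψ := (Nat.bijective_iff_injective_and_card Ψ).mpr ⟨hΨi, by rw [h24, hq]⟩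
  have hN600 : Nat.card N = 600 := by
    rw [Subgroup.card_eq_card_quotient_mul_card_subgroup (P0.subgroupOf N), hq,
      Nat.card_congr (Subgroup.subgroupOfEquivOfLe hPN).toEquiv, hP0c]
  -- transport to the given subgroup
  obtain ⟨g, hg⟩ := MulAction.exists_smul_eq G R P
  have hPmap : P0.map (MulAut.conj g).toMonoidHom = (P : Subgroup G) := by
    rw [hRe, ← hg, Sylow.coe_subgroup_smul]; rfl
  let cg := MulAut.conj g
  have hNmap : N.map cg.toMonoidHom = Subgroup.normalizer ((P : Subgroup G) : Set G) := by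
    rw [hN, ← hPmap]
    exact Subgroup.map_equiv_normalizer_eq P0 cg
  let eN : N ≃* Subgroup.normalizer ((P : Subgroup G) : Set G) :=
    (cg.subgroupMap N).trans (MulEquiv.subgroupCongr hNmap)
  have heP : (P0.subgroupOf N).map (eN : N →* Subgroup.normalizer ((P : Subgroup G) : Set G)) =
      (P : Subgroup G).subgroupOf (Subgroup.normalizer ((P : Subgroup G) : Set G)) := by
    ext y
    rw [Subgroup.mem_subgroupOf]
    constructor
    · rintro ⟨v, hv, rfl⟩; exact hPmap.le ⟨v, Subgroup.mem_subgroupOf.mp hv, rfl⟩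
    · intro hy
      obtain ⟨v, hv, hvy⟩ := hPmap.ge hy
      exact ⟨⟨v, hPN hv⟩, Subgroup.mem_subgroupOf.mpr hv, Subtype.ext hvy⟩
  refine ⟨?_, h25 P, by rw [← Nat.card_congr eN.toEquiv, hN600],
    ⟨(QuotientGroup.congr _ _ eN heP).symm.trans (MulEquiv.ofBijective Ψ hbij).symm⟩⟩
  -- the two classes
  have hz : ∀ {y : G}, y ^ 5 = 1 → y ≠ 1 → Nat.card (Subgroup.zpowers y) = 5 := fun h h1 => by
    rw [Nat.card_zpowers, orderOf_eq_prime h h1]
  have hU1 : U ≠ 1 := fun h => absurd (hind (1, 0) (by simpa using h)) (by decide)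
  have hV1 : V ≠ 1 := fun h => absurd (hind (0, 1) (by simpa using h)) (by decide)
  refine ⟨Subgroup.zpowers U, Subgroup.zpowers V, hz hU hU1, hz hV hV1, fun a ha => ?_, fun C hC5 => ?_⟩
  · have hmem : a * U * a⁻¹ ∈ Subgroup.zpowers V := ha ▸ ⟨U, Subgroup.mem_zpowers U, rfl⟩
    rw [← mem_powers_iff_mem_zpowers, Submonoid.mem_powers_iff] at hmem
    obtain ⟨m, hm⟩ := hmem
    refine hfus a⁻¹ ⟨m % 5, Nat.mod_lt _ (by norm_num)⟩ 1 (by decide) ?_
    show a⁻¹ * V ^ (m % 5) * a⁻¹⁻¹ = U ^ 1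
    rw [← pow_eq_pow_mod _ hV, hm]; group
  · obtain ⟨S, hS⟩ := (IsPGroup.of_card (G := C) (n := 1) (by rw [hC5, pow_one])).exists_le_sylow
    obtain ⟨b, hb⟩ := MulAction.exists_smul_eq G S R
    have hsub : C.map (MulAut.conj b).toMonoidHom ≤ P0 := by
      rw [hRe, ← hb, Sylow.coe_subgroup_smul]
      exact Subgroup.map_mono hS
    obtain ⟨c, hcC, hc1⟩ := (Subgroup.bot_or_exists_ne_one C).resolve_left fun h => by
      rw [h, Subgroup.card_bot] at hC5; norm_num at hC5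
    obtain ⟨p, hp⟩ := hP0' (b * c * b⁻¹) (hsub ⟨c, hcC, rfl⟩)
    have hp0 : p ≠ (0, 0) := fun h => hc1 (conj_eq_one_iff.mp (by rw [hp, h]; simp))
    obtain ⟨a, k, hk, hh⟩ := hline p hp0
    refine ⟨ψ a * b, ?_⟩
    have hcard : Nat.card (C.map (MulAut.conj (ψ a * b)).toMonoidHom) = 5 := by
      rw [Subgroup.card_map_of_injective (MulAut.conj (ψ a * b)).injective, hC5]
    have key : ∀ Z : G, Z ^ 5 = 1 → Z ≠ 1 → ψ a * (U ^ p.1.val * V ^ p.2.val) * (ψ a)⁻¹ = Z ^ k.val →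
        C.map (MulAut.conj (ψ a * b)).toMonoidHom = Subgroup.zpowers Z := fun Z hZ hZ1 h => by
      have he : C = Subgroup.zpowers c := (Subgroup.eq_of_le_of_card_ge (Subgroup.zpowers_le.mpr hcC) (by
        rw [hC5, Nat.card_zpowers]
        exact Nat.le_of_eq (orderOf_eq_prime (orderOf_dvd_iff_pow_eq_one.mp
          (hC5 ▸ Subgroup.orderOf_dvd_natCard _ hcC)) hc1).symm)).symm
      refine Subgroup.eq_of_le_of_card_ge ?_ (by rw [hcard, hz hZ hZ1])
      rw [he, MonoidHom.map_zpowers, Subgroup.zpowers_le]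
      refine ⟨k.val, ?_⟩
      show Z ^ (k.val : ℤ) = ψ a * b * c * (ψ a * b)⁻¹
      rw [zpow_natCast, ← h, ← hp]; group
    rcases hh with ⟨-, h⟩ | ⟨-, h⟩
    · exact Or.inl (key U hU hU1 h)
    · exact Or.inr (key V hV hV1 h)

end CfsgLib.SuzFiveNorm
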