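import Cfsg.Agent.Lib.SuzFiveNorm.Data

/-!
A normaliser of a subgroup of order twenty-five in the presented Suzuki group.
-/

set_option autoImplicit false
set_option maxRecDepth 100000

namespace CfsgLib.SuzFiveNorm

open CfsgLib.CosetEnum CfsgLib.SuzOut

/-- Which of the two classes contains the element with the given coordinates. -/
def side (p : Fin 5 × Fin 5) : ℕ :=
  if p = (0, 0) then 2 else (lineC.getD (5 * p.1.val + p.2.val) (0, 0, 0, 0)).2.2.1

/-- The six permutations. -/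
def perm6 : Fin 6 → Equiv.Perm (Fin 3) :=
  ![1, Equiv.swap 0 1, Equiv.swap 0 2, Equiv.swap 1 2, finRotate 3, (finRotate 3)⁻¹]

/-- The number of a permutation. -/
def num6 (σ : Equiv.Perm (Fin 3)) : Fin 6 :=
  if σ = 1 then 0 else if σ = Equiv.swap 0 1 then 1 else if σ = Equiv.swap 0 2 then 2
    else if σ = Equiv.swap 1 2 then 3 else if σ = finRotate 3 then 4 else 5

theorem perm6_num : (∀ σ : Equiv.Perm (Fin 3), perm6 (num6 σ) = σ) ∧ ∀ a : Fin 6, num6 (perm6 a) = a := by
  decide +kernel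

/-- The word of a permutation. -/
def sWord (a : Fin 6) : List ℕ := sW.getD a.val []

/-- The word of an element of order dividing twenty-five. -/
def pW (i j : ℕ) : List ℕ := powW vW j ++ powW uW i

/-- The word of a conjugate. -/
def cjW (w x : List ℕ) : List ℕ := w.reverse ++ x ++ w

/-- The checks of the relations. -/
noncomputable def relOK : Bool :=
  sameEl (powW uW 5) [] && sameEl (powW vW 5) [] && sameEl (uW ++ vW) (vW ++ uW) && sameEl (powW cW 4) [] &&
    ((List.range 5).all fun i => (List.range 5).all fun j => (Nat.beq i 0 && Nat.beq j 0) || !sameEl (pW i j) [])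

theorem relOK_ok : relOK = true := by decide +kernel

theorem mulOK : ∀ a b : Fin 6, sameEl (sWord b ++ sWord a) (sWord (num6 (perm6 a * perm6 b))) = true := by
  decide +kernel

theorem commOK : ∀ a : Fin 6, sameEl (cW ++ sWord a) (sWord a ++ cW) = true := by decide +kernel

theorem faithOK : ∀ a : Fin 4, ∀ b : Fin 6, a = 0 ∧ b = 0 ∨ sameEl (sWord b ++ powW cW a.val) [] = false := by
  decide +kernel

theorem okWord_parts : okWord uW = true ∧ okWord vW = true ∧ okWord cW = true ∧ ∀ a : Fin 6, okWord (sWord a) = true := by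
  decide +kernel

/-- The coordinates of a conjugate of a generator. -/
def conjAt (a : Fin 7) : (ℕ × ℕ) × ℕ × ℕ := conjC.getD a.val ((0, 0), 0, 0)

/-- The elements normalising. -/
def normW (a : Fin 7) : List ℕ := if h : a.val = 0 then cW else sWord ⟨a.val - 1, by omega⟩

theorem normOK : ∀ a : Fin 7, sameEl (cjW (normW a) uW) (pW (conjAt a).1.1 (conjAt a).1.2) = true ∧
    sameEl (cjW (normW a) vW) (pW (conjAt a).2.1 (conjAt a).2.2) = true := by decide +kernel

/-- The data of a line. -/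
def lineAt (p : Fin 5 × Fin 5) : ℕ × ℕ × ℕ × ℕ := lineC.getD (5 * p.1.val + p.2.val) (0, 0, 0, 0)

theorem lineOK : ∀ p : Fin 5 × Fin 5, p = (0, 0) ∨
    ((lineAt p).1 < 4 ∧ (lineAt p).2.1 < 6 ∧ 0 < (lineAt p).2.2.2 ∧ (lineAt p).2.2.2 < 5 ∧
      ((lineAt p).2.2.1 = 0 ∧
          sameEl (cjW (sW.getD (lineAt p).2.1 [] ++ powW cW (lineAt p).1) (pW p.1.val p.2.val))
            (powW uW (lineAt p).2.2.2) = true ∨
        (lineAt p).2.2.1 = 1 ∧
          sameEl (cjW (sW.getD (lineAt p).2.1 [] ++ powW cW (lineAt p).1) (pW p.1.val p.2.val))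
            (powW vW (lineAt p).2.2.2) = true)) := by decide +kernel

theorem fixU_ok : allN 1782 (fun d => force d fun d => !(Nat.beq (run1 uW d) d) || Nat.beq d 0 || Nat.beq d 995) = true := by
  decide +kernel

theorem fixV_ok : run1 vW 0 = 0 ∧ run1 vW 1 = 1 ∧ run1 vW 2 = 2 := by decide +kernel

/-- The six lines. -/
def coordMul (q r : Fin 5 × Fin 5) (p : Fin 5 × Fin 5) : Fin 5 × Fin 5 :=
  (p.1 * q.1 + p.2 * r.1, p.1 * q.2 + p.2 * r.2)

/-- The linear maps preserving the classes. -/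
def admissible : Finset ((Fin 5 × Fin 5) × (Fin 5 × Fin 5)) :=
  Finset.univ.filter fun qr => ∀ p : Fin 5 × Fin 5, side (coordMul qr.1 qr.2 p) = side p

theorem admissible_card : admissible.card = 24 := by decide +kernel

theorem okWord_pow {w : List ℕ} (hw : okWord w = true) : ∀ n, okWord (powW w n) = true
  | 0 => rfl
  | n + 1 => okWord_append (okWord_pow hw n) hw

theorem mem_normalizer_of_conj' {G : Type} [Group G] [Finite G] {H : Subgroup G} {a : G}
    (h : ∀ y ∈ H, a * y * a⁻¹ ∈ H) : a ∈ Subgroup.normalizer (H : Set G) := by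
  have he : H.map (MulAut.conj a).toMonoidHom = H := Subgroup.eq_of_le_of_card_ge
    (by rintro _ ⟨y, hy, rfl⟩; exact h y hy)
    (by rw [Subgroup.card_map_of_injective (MulAut.conj a).injective])
  refine Subgroup.mem_normalizer_iff.mpr fun y => ⟨h y, fun hy => ?_⟩
  rw [← he] at hy
  obtain ⟨y', hy', e⟩ := hy
  have : a * y' * a⁻¹ = a * y * a⁻¹ := e
  rwa [mul_left_cancel (mul_right_cancel this)] at hy'

theorem pt_pow {g : presSuz.Grp} {p : ℕ} (hp : p < Suz1782.cert.T.n) (h : pt g p = p) : ∀ n, pt (g ^ n) p = p := by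
  intro n
  induction n with
  | zero => rw [pow_zero, pt_one]
  | succ n ih => rw [pow_succ, pt_mul _ _ hp, h, ih]

theorem el_conj (w x : List ℕ) : el (cjW w x) = el w * el x * (el w)⁻¹ := by
  rw [cjW, el_append, el_append, el_inv]
  group

/-- The model of the normaliser. -/
theorem model : ∃ (U V : presSuz.Grp) (ψ : Multiplicative (ZMod 4) × Equiv.Perm (Fin 3) →* presSuz.Grp),
    U ^ 5 = 1 ∧ V ^ 5 = 1 ∧ Commute U V ∧ (∀ p : Fin 5 × Fin 5, U ^ p.1.val * V ^ p.2.val = 1 → p = (0, 0)) ∧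
      Function.Injective ψ ∧
      (∀ g, (∃ q : Fin 5 × Fin 5, ψ g * U * (ψ g)⁻¹ = U ^ q.1.val * V ^ q.2.val) ∧
        ∃ q : Fin 5 × Fin 5, ψ g * V * (ψ g)⁻¹ = U ^ q.1.val * V ^ q.2.val) ∧
      (∀ p : Fin 5 × Fin 5, p ≠ (0, 0) → ∃ g, ∃ k : Fin 5, k ≠ 0 ∧
        (side p = 0 ∧ ψ g * (U ^ p.1.val * V ^ p.2.val) * (ψ g)⁻¹ = U ^ k.val ∨
          side p = 1 ∧ ψ g * (U ^ p.1.val * V ^ p.2.val) * (ψ g)⁻¹ = V ^ k.val)) ∧
      ∀ (g : presSuz.Grp) (k l : Fin 5), l ≠ 0 → g * V ^ k.val * g⁻¹ ≠ U ^ l.val := by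
  classical
  have hrel := relOK_ok
  simp only [relOK, Bool.and_eq_true, List.all_eq_true, List.mem_range] at hrel
  obtain ⟨⟨⟨⟨hu5, hv5⟩, huv⟩, hc4⟩, hind⟩ := hrel
  obtain ⟨okU, okV, okC, okS⟩ := okWord_parts
  set U := el uW with hU
  set V := el vW with hV
  set C := el cW with hC
  have eU : U ^ 5 = 1 := by rw [hU, ← el_powW, el_eq hu5, el_nil]
  have eV : V ^ 5 = 1 := by rw [hV, ← el_powW, el_eq hv5, el_nil]
  have eC : C ^ 4 = 1 := by rw [hC, ← el_powW, el_eq hc4, el_nil]
  have eUV : Commute U V := by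
    have := el_eq huv
    rw [el_append, el_append] at this
    exact this.symm
  have epW : ∀ i j, el (pW i j) = U ^ i * V ^ j := fun i j => by rw [pW, el_append, el_powW, el_powW]
  let s : Equiv.Perm (Fin 3) →* presSuz.Grp := MonoidHom.mk' (fun σ => el (sWord (num6 σ))) fun σ τ => by
    have := el_eq (mulOK (num6 σ) (num6 τ))
    rw [perm6_num.1, perm6_num.1, el_append] at this
    exact this.symm
  let c : Multiplicative (ZMod 4) →* presSuz.Grp := MonoidHom.mk' (fun a => C ^ (Multiplicative.toAdd a).val) fun a b => by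
    show C ^ (Multiplicative.toAdd a + Multiplicative.toAdd b).val = _
    rw [← pow_add, ZMod.val_add, ← pow_eq_pow_mod _ eC]
  have hcs : ∀ a σ, Commute (c a) (s σ) := fun a σ => by
    have := el_eq (commOK (num6 σ))
    rw [el_append, el_append] at this
    exact (show Commute C (el (sWord (num6 σ))) from this.symm).pow_left _
  let ψ := c.noncommCoprod s hcs
  have hψ : ∀ a σ, ψ (a, σ) = c a * s σ := fun a σ => rfl
  refine ⟨U, V, ψ, eU, eV, eUV, fun p hp => ?_, ?_, ?_, fun p hp => ?_, ?_⟩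
  · by_contra hne
    have := hind p.1.val p.1.isLt p.2.val p.2.isLt
    rw [Bool.or_eq_true] at this
    rcases this with h | h
    · rw [Bool.and_eq_true] at h
      exact hne (Prod.ext (Fin.ext (Nat.eq_of_beq_eq_true h.1)) (Fin.ext (Nat.eq_of_beq_eq_true h.2)))
    · have hok : okWord (pW p.1.val p.2.val) = true := okWord_append (okWord_pow okV _) (okWord_pow okU _)
      exact el_ne hok rfl (by simpa using h) (by rw [epW, hp, el_nil])
  · refine (injective_iff_map_eq_one ψ).mpr fun g hg => ?_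
    obtain ⟨a, σ⟩ := g
    rw [hψ] at hg
    rcases faithOK ⟨(Multiplicative.toAdd a).val, ZMod.val_lt _⟩ (num6 σ) with ⟨h1, h2⟩ | h
    · refine Prod.ext ?_ ?_
      · show a = 1
        have h1' := congrArg Fin.val h1
        exact Multiplicative.toAdd.injective ((ZMod.val_eq_zero _).mp h1')
      · show σ = 1
        rw [← perm6_num.1 σ, h2]; rfl
    · exfalso
      refine el_ne ?_ rfl h ?_
      · exact okWord_append (okS _) (okWord_pow okC _)
      · rw [el_append, el_powW, el_nil]; exact hg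
  · -- the normalising elements
    have hgen : ∀ a : Fin 7, (∃ q : Fin 5 × Fin 5, el (normW a) * U * (el (normW a))⁻¹ = U ^ q.1.val * V ^ q.2.val) ∧
        ∃ q : Fin 5 × Fin 5, el (normW a) * V * (el (normW a))⁻¹ = U ^ q.1.val * V ^ q.2.val := by
      intro a
      obtain ⟨h1, h2⟩ := normOK a
      refine ⟨⟨(Fin.ofNat 5 (conjAt a).1.1, Fin.ofNat 5 (conjAt a).1.2), ?_⟩,
        ⟨(Fin.ofNat 5 (conjAt a).2.1, Fin.ofNat 5 (conjAt a).2.2), ?_⟩⟩
      · rw [← el_conj, el_eq h1, epW, pow_eq_pow_mod _ eU, pow_eq_pow_mod (conjAt a).1.2 eV]; rfl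
      · rw [← el_conj, el_eq h2, epW, pow_eq_pow_mod _ eU, pow_eq_pow_mod (conjAt a).2.2 eV]; rfl
    let cu : Multiplicative (ZMod 5) →* presSuz.Grp := MonoidHom.mk' (fun a => U ^ (Multiplicative.toAdd a).val) fun a b => by
      show U ^ (Multiplicative.toAdd a + Multiplicative.toAdd b).val = _
      rw [← pow_add, ZMod.val_add, ← pow_eq_pow_mod _ eU]
    let cv : Multiplicative (ZMod 5) →* presSuz.Grp := MonoidHom.mk' (fun a => V ^ (Multiplicative.toAdd a).val) fun a b => by
      show V ^ (Multiplicative.toAdd a + Multiplicative.toAdd b).val = _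
      rw [← pow_add, ZMod.val_add, ← pow_eq_pow_mod _ eV]
    let P0 := (cu.noncommCoprod cv fun a b => eUV.pow_pow _ _).range
    have hP0 : ∀ i j : ℕ, U ^ i * V ^ j ∈ P0 := fun i j =>
      ⟨(Multiplicative.ofAdd (i : ZMod 5), Multiplicative.ofAdd (j : ZMod 5)), by
        show U ^ (i : ZMod 5).val * V ^ (j : ZMod 5).val = _
        rw [ZMod.val_natCast, ZMod.val_natCast, ← pow_eq_pow_mod _ eU, ← pow_eq_pow_mod _ eV]⟩
    have hP0' : ∀ y ∈ P0, ∃ q : Fin 5 × Fin 5, y = U ^ q.1.val * V ^ q.2.val := by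
      rintro _ ⟨⟨i, j⟩, rfl⟩
      exact ⟨(⟨(Multiplicative.toAdd i).val, ZMod.val_lt _⟩, ⟨(Multiplicative.toAdd j).val, ZMod.val_lt _⟩), rfl⟩
    let N := Subgroup.normalizer (P0 : Set presSuz.Grp)
    have hN : ∀ a : Fin 7, el (normW a) ∈ N := by
      intro a
      refine mem_normalizer_of_conj' fun y hy => ?_
      obtain ⟨q, rfl⟩ := hP0' y hy
      obtain ⟨⟨q1, e1⟩, q2, e2⟩ := hgen a
      rw [show el (normW a) * (U ^ q.1.val * V ^ q.2.val) * (el (normW a))⁻¹ =
        (el (normW a) * U ^ q.1.val * (el (normW a))⁻¹) * (el (normW a) * V ^ q.2.val * (el (normW a))⁻¹) by group,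
        ← conj_pow, ← conj_pow, e1, e2]
      exact mul_mem (pow_mem (hP0 _ _) _) (pow_mem (hP0 _ _) _)
    intro g
    have hg : ψ g ∈ N := by
      obtain ⟨a, σ⟩ := g
      rw [hψ]
      refine mul_mem (pow_mem ?_ _) ?_
      · exact hN 0
      · have := hN ⟨(num6 σ).val + 1, by omega⟩
        rw [normW, dif_neg (by simp)] at this
        exact this
    exact ⟨hP0' _ ((Subgroup.mem_normalizer_iff.mp hg U).mp (by simpa using hP0 1 0)),
      hP0' _ ((Subgroup.mem_normalizer_iff.mp hg V).mp (by simpa using hP0 0 1))⟩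
  · obtain h | ⟨h1, h2, h3, h4, h5⟩ := lineOK p
    · exact absurd h hp
    obtain ⟨a, b, sd, k, hl⟩ : ∃ a b sd k, lineAt p = (a, b, sd, k) := ⟨_, _, _, _, rfl⟩
    have hside : side p = sd := by
      rw [side, if_neg hp]; show (lineAt p).2.2.1 = sd; rw [hl]
    rw [hl] at h1 h2 h3 h4 h5
    simp only at h1 h2 h3 h4 h5
    refine ⟨(Multiplicative.ofAdd (a : ZMod 4), perm6 ⟨b, h2⟩), ⟨k, h4⟩, fun e => h3.ne' (congrArg Fin.val e), ?_⟩
    have hel : ψ (Multiplicative.ofAdd (a : ZMod 4), perm6 ⟨b, h2⟩) = el (sW.getD b [] ++ powW cW a) := by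
      rw [hψ, el_append, el_powW]
      show C ^ ((a : ZMod 4)).val * el (sWord (num6 (perm6 ⟨b, h2⟩))) = _
      rw [perm6_num.2, ZMod.val_natCast, Nat.mod_eq_of_lt h1]
      rfl
    rw [hel, ← epW, ← el_conj]
    rcases h5 with ⟨e1, e2⟩ | ⟨e1, e2⟩
    · exact Or.inl ⟨hside.trans e1, by rw [el_eq e2, el_powW]⟩
    · exact Or.inr ⟨hside.trans e1, by rw [el_eq e2, el_powW]⟩
  · intro g k l hl e
    obtain ⟨m, -, hm⟩ := (show ∀ l : Fin 5, l ≠ 0 → ∃ m < 5, l.val * m % 5 = 1 by decide) l hl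
    have eU' : U = g * (V ^ k.val) ^ m * g⁻¹ := by
      rw [← conj_pow, e, ← pow_mul, pow_eq_pow_mod _ eU, hm, pow_one]
    have hn : (1782 : ℕ) = Suz1782.cert.T.n := rfl
    have hfix : ∀ p, p < 1782 → pt V p = p → pt g p = 0 ∨ pt g p = 995 := by
      intro p hp hVp
      have hp' : p < Suz1782.cert.T.n := hp
      have h1 : pt U (pt g p) = pt g p := by
        conv_lhs => rw [eU', ← pt_mul _ _ hp', inv_mul_cancel_right, pt_mul _ _ hp', pt_pow hp' (pt_pow hp' hVp k.val) m]
      rw [hU, pt_el okU (pt_lt g hp')] at h1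
      have h2 := allN_spec fixU_ok (pt g p) (pt_lt g hp')
      rw [force_eq, h1, Nat.beq_refl] at h2
      simp only [Bool.not_true, Bool.false_or, Bool.or_eq_true] at h2
      exact h2.imp Nat.eq_of_beq_eq_true Nat.eq_of_beq_eq_true
    obtain ⟨f0, f1, f2⟩ := fixV_ok
    have hv : ∀ p, p < 1782 → run1 vW p = p → pt V p = p := fun p hp e => (pt_el okV hp).trans e
    have i01 : pt g 0 = pt g 1 → False := fun h => absurd (pt_inj (g := g) (p := 0) (q := 1) (by rw [← hn]; norm_num) (by rw [← hn]; norm_num) h) (by norm_num)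
    have i02 : pt g 0 = pt g 2 → False := fun h => absurd (pt_inj (g := g) (p := 0) (q := 2) (by rw [← hn]; norm_num) (by rw [← hn]; norm_num) h) (by norm_num)
    have i12 : pt g 1 = pt g 2 → False := fun h => absurd (pt_inj (g := g) (p := 1) (q := 2) (by rw [← hn]; norm_num) (by rw [← hn]; norm_num) h) (by norm_num)
    rcases hfix 0 (by norm_num) (hv 0 (by norm_num) f0) with a0 | a0 <;>
      rcases hfix 1 (by norm_num) (hv 1 (by norm_num) f1) with a1 | a1 <;>
      rcases hfix 2 (by norm_num) (hv 2 (by norm_num) f2) with a2 | a2 <;>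
      first
        | exact i01 (a0.trans a1.symm)
        | exact i02 (a0.trans a2.symm)
        | exact i12 (a1.trans a2.symm)
end CfsgLib.SuzFiveNorm
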